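import Mathlib

/-! Key computation for S2874 (A4 subgroups of GL2(Z/2^k) are conjugate). -/

namespace Cfsg.Agent.Lib.Helper26.A4GL2

/-- If `v` is an involution matrix with `v * (c⁻¹ v c) = c v c⁻¹ = (c⁻¹ v c) * v` for
`c = !![0,-1;1,-1]` (so `c⁻¹ = !![-1,1;-1,0]`), over a commutative ring where `3` is invertible,
then `v = !![x, y; y + x - 1, x]` with `2 y = 0`, `2 (x - 1) = 0`. -/
theorem key_l2 {R : Type*} [CommRing R] (x y z w : R) (t : R) (_h3 : 3 * t = 1)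
    (E1 : (!![x,y;z,w] : Matrix (Fin 2) (Fin 2) R) * !![x,y;z,w] = 1)
    (E2 : (!![x,y;z,w] : Matrix (Fin 2) (Fin 2) R) *
      (!![-1,1;-1,0] * !![x,y;z,w] * !![0,-1;1,-1]) = !![0,-1;1,-1] * !![x,y;z,w] * !![-1,1;-1,0])
    (E3 : (!![-1,1;-1,0] * !![x,y;z,w] * !![0,-1;1,-1]) *
      (!![x,y;z,w] : Matrix (Fin 2) (Fin 2) R) = !![0,-1;1,-1] * !![x,y;z,w] * !![-1,1;-1,0]) :
    2 * y = 0 ∧ 2 * (x - 1) = 0 ∧ w = x ∧ z = y + x - 1 := by
  simp only [Matrix.mul_fin_two, Matrix.one_fin_two] at E1 E2 E3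
  have e1 := congrFun (congrFun E1 0) 0
  have e2 := congrFun (congrFun E1 0) 1
  have e3 := congrFun (congrFun E1 1) 0
  have e4 := congrFun (congrFun E1 1) 1
  have f1 := congrFun (congrFun E2 0) 0
  have f2 := congrFun (congrFun E2 0) 1
  have f3 := congrFun (congrFun E2 1) 0
  have f4 := congrFun (congrFun E2 1) 1
  have g1 := congrFun (congrFun E3 0) 0
  have g2 := congrFun (congrFun E3 0) 1
  have g3 := congrFun (congrFun E3 1) 0
  have g4 := congrFun (congrFun E3 1) 1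
  simp at e1 e2 e3 e4 f1 f2 f3 f4 g1 g2 g3 g4
  clear E1 E2 E3
  refine ⟨?_, ?_, ?_, ?_⟩ <;> grind

end Cfsg.Agent.Lib.Helper26.A4GL2
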